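import Mathlib
import Cfsg.Agent.Lib.InvChar.Basics
import Cfsg.Agent.Lib.InvChar.OneSubgroup
import Cfsg.Agent.Lib.Basics.Tools
import Cfsg.Agent.Lib.Basics.Cores

/-!
# Normal elementary abelian subgroups of order p ^ 2 in p-groups, p odd
-/

set_option autoImplicit false
set_option linter.style.haveILetI false

namespace Cfsg.Agent.PGroup23

variable {G : Type*} [Group G] [Finite G] {p : ℕ} [hp : Fact p.Prime]

/-- A nontrivial normal subgroup of a p-group has a normal subgroup of the group of index p in it. -/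
theorem exists_normal_index_prime (hG : IsPGroup p G) (N : Subgroup G) [N.Normal] (hN : N ≠ ⊥) :
    ∃ M : Subgroup G, M.Normal ∧ M ≤ N ∧ Nat.card N = p * Nat.card M := by
  obtain ⟨M, ⟨hMn, hMN⟩, hmax⟩ := Set.Finite.exists_maximal
    (s := {M : Subgroup G | M.Normal ∧ M < N}) (Set.toFinite _) ⟨⊥, inferInstance, hN.bot_lt⟩
  haveI := hMn
  set π := QuotientGroup.mk' M with hπ
  have hsurj : Function.Surjective π := QuotientGroup.mk'_surjective M
  haveI : (N.map π).Normal := Subgroup.Normal.map inferInstance π hsurj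
  have hne : N.map π ≠ ⊥ := by
    intro h
    rw [Subgroup.map_eq_bot_iff, hπ, QuotientGroup.ker_mk'] at h
    exact hMN.not_ge h
  obtain ⟨c, hcN, hcZ, hc1⟩ := InvChar.exists_mem_center_of_normal (hG.to_quotient M) _ hne
  obtain ⟨k, hk⟩ := IsPGroup.iff_orderOf.mp (hG.to_quotient M) c
  have hk0 : k ≠ 0 := by
    rintro rfl
    exact hc1 (orderOf_eq_one_iff.mp (by rw [hk, pow_zero]))
  set d := c ^ p ^ (k - 1) with hd
  have hdo : orderOf d = p := by
    rw [hd, orderOf_pow' _ (pow_ne_zero _ hp.out.ne_zero), hk,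
      Nat.gcd_eq_right (pow_dvd_pow p (by omega)), Nat.pow_div (by omega) hp.out.pos,
      show k - (k - 1) = 1 by omega, pow_one]
  haveI : (Subgroup.zpowers d).Normal := ⟨fun y hy g => by
    have hyZ : y ∈ Subgroup.center (G ⧸ M) :=
      Subgroup.zpowers_le.mpr (pow_mem hcZ _) hy
    rwa [Subgroup.mem_center_iff.mp hyZ g, mul_inv_cancel_right]⟩
  set K := (Subgroup.zpowers d).comap π with hK
  have hMK : M ≤ K := fun m hm => by
    show π m ∈ Subgroup.zpowers d
    rw [hπ, QuotientGroup.mk'_apply, (QuotientGroup.eq_one_iff m).mpr hm]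
    exact one_mem _
  have hKN : K ≤ N := by
    intro x hx
    have hx' : π x ∈ N.map π := Subgroup.zpowers_le.mpr (pow_mem hcN _) hx
    obtain ⟨y, hy, hyx⟩ := hx'
    have : y⁻¹ * x ∈ M := QuotientGroup.eq.mp hyx
    have := mul_mem hy (hMN.le this)
    rwa [mul_inv_cancel_left] at this
  have hKcard : Nat.card K = p * Nat.card M := by
    rw [hK, hπ, Basics.card_comap_mk', Nat.card_zpowers, hdo, mul_comm]
  refine ⟨M, hMn, hMN.le, ?_⟩
  rw [← hKcard]
  by_contra hne'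
  have hlt : K < N := lt_of_le_of_ne hKN fun h => hne' (by rw [h])
  have := le_antisymm (hmax ⟨inferInstance, hlt⟩ hMK) hMK
  rw [this] at hKcard
  have := Nat.card_pos (α := M)
  nlinarith [hp.out.two_le]

/-- If `r ^ p ≡ 1` modulo `p ^ m` for odd `p`, then `r ≡ 1` modulo `p ^ (m - 1)` and `p`. -/
theorem dvd_sub_one_of_pow_prime (hp2 : p ≠ 2) {r : ℤ} {m : ℕ} (hm : m ≠ 0)
    (h : (p : ℤ) ^ m ∣ r ^ p - 1) : (p : ℤ) ^ (m - 1) ∣ r - 1 ∧ (p : ℤ) ∣ r - 1 := by
  have hpp : (p : ℤ) ∣ r ^ p - 1 := (dvd_pow_self _ hm).trans h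
  have h1 : (p : ℤ) ∣ r - 1 := by
    rw [← ZMod.intCast_zmod_eq_zero_iff_dvd] at hpp ⊢
    push_cast at hpp ⊢
    rwa [ZMod.pow_card] at hpp
  refine ⟨?_, h1⟩
  have hr : ¬ (p : ℤ) ∣ r := fun hr => by
    have := dvd_sub hr h1
    rw [sub_sub_cancel] at this
    exact hp.out.one_lt.ne' (by exact_mod_cast Int.eq_one_of_dvd_one (Int.natCast_nonneg p) this)
  have hle := Int.emultiplicity_pow_sub_pow hp.out (hp.out.odd_of_ne_two hp2) h1 hr p
  rw [one_pow, (Nat.finiteMultiplicity_iff.mpr ⟨hp.out.ne_one, hp.out.pos⟩).emultiplicity_self] at hle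
  rw [pow_dvd_iff_le_emultiplicity, hle] at h
  rw [pow_dvd_iff_le_emultiplicity]
  generalize emultiplicity (p : ℤ) (r - 1) = e at h ⊢
  cases e using ENat.recTopCoe with
  | top => exact le_top
  | coe e =>
    have : m ≤ e + 1 := by exact_mod_cast h
    exact_mod_cast (by omega : m - 1 ≤ e)

/-- The geometric sum of `r` is `p` modulo `p ^ m`. -/
theorem dvd_geom_sum_sub (hp2 : p ≠ 2) {r : ℤ} {m : ℕ} (hm : m ≠ 0)
    (h1 : (p : ℤ) ^ (m - 1) ∣ r - 1) (h2 : (p : ℤ) ∣ r - 1) :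
    (p : ℤ) ^ m ∣ (∑ i ∈ Finset.range p, r ^ i) - p := by
  obtain ⟨u, hu⟩ := h1
  -- `r ^ i ≡ 1 + i (r - 1)`
  have hmod : ∀ i : ℕ, (p : ℤ) ^ m ∣ r ^ i - 1 - i * (r - 1) := by
    intro i
    induction i with
    | zero => simp
    | succ i ih =>
      have hsq : (p : ℤ) ^ m ∣ (r - 1) * (r - 1) := by
        rw [show (p : ℤ) ^ m = (p : ℤ) ^ (m - 1) * p by
          rw [← pow_succ]; congr 1; omega]
        exact mul_dvd_mul ⟨u, hu⟩ h2
      have : r ^ (i + 1) - 1 - ((i + 1 : ℕ) : ℤ) * (r - 1) =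
          r * (r ^ i - 1 - i * (r - 1)) + (i : ℤ) * ((r - 1) * (r - 1)) := by
        push_cast; ring
      rw [this]
      exact dvd_add (dvd_mul_of_dvd_right ih _) (dvd_mul_of_dvd_right hsq _)
  have hsum : (∑ i ∈ Finset.range p, r ^ i) - p =
      (∑ i ∈ Finset.range p, (r ^ i - 1 - i * (r - 1))) +
        ((∑ i ∈ Finset.range p, i : ℕ) : ℤ) * (r - 1) := by
    push_cast
    rw [Finset.sum_mul, ← Finset.sum_add_distrib]
    simp
  rw [hsum]
  refine dvd_add (Finset.dvd_sum fun i _ => hmod i) ?_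
  have hps : (p : ℤ) ∣ ((∑ i ∈ Finset.range p, i : ℕ) : ℤ) := by
    obtain ⟨k, hk⟩ := hp.out.odd_of_ne_two hp2
    rw [Finset.sum_range_id, hk, show 2 * k + 1 - 1 = 2 * k by omega,
      show (2 * k + 1) * (2 * k) = (2 * k + 1) * k * 2 by ring, Nat.mul_div_cancel _ two_pos]
    push_cast
    exact dvd_mul_right _ _
  rw [show (p : ℤ) ^ m = (p : ℤ) * (p : ℤ) ^ (m - 1) by rw [← pow_succ']; congr 1; omega]
  exact mul_dvd_mul hps ⟨u, hu⟩

/-- A noncyclic p-group, p odd, has a normal subgroup of order p ^ 2 and exponent p. -/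
theorem exists_normal_elementary_sq (hp2 : p ≠ 2) (hG : IsPGroup p G) (hnc : ¬ IsCyclic G) :
    ∃ E : Subgroup G, E.Normal ∧ Nat.card E = p ^ 2 ∧ IsMulCommutative E ∧
      ∀ g ∈ E, g ^ p = 1 := by
  have htop : ¬ IsCyclic (⊤ : Subgroup G) := fun h =>
    hnc (isCyclic_of_surjective Subgroup.topEquiv.toMonoidHom Subgroup.topEquiv.surjective)
  obtain ⟨N, ⟨hNn, hNc⟩, hmin⟩ := Set.Finite.exists_minimal
    (s := {N : Subgroup G | N.Normal ∧ ¬ IsCyclic N}) (Set.toFinite _) ⟨⊤, inferInstance, htop⟩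
  haveI := hNn
  have hN1 : N ≠ ⊥ := fun h => hNc (h ▸ inferInstance)
  obtain ⟨M, hMn, hMN, hcard⟩ := exists_normal_index_prime hG N hN1
  haveI := hMn
  have hMc : IsCyclic M := by
    by_contra hc
    have h := hmin ⟨hMn, hc⟩ hMN
    have := le_antisymm h hMN
    rw [this] at hcard
    have := Nat.card_pos (α := M)
    nlinarith [hp.out.two_le]
  obtain ⟨a, ha⟩ := (Subgroup.isCyclic_iff_exists_zpowers_eq_top M).mp hMc
  subst ha
  have haN : a ∈ N := hMN (Subgroup.mem_zpowers a)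
  obtain ⟨m, hm⟩ := IsPGroup.iff_orderOf.mp hG a
  rw [Nat.card_zpowers, hm] at hcard
  have hm0 : m ≠ 0 := by
    rintro rfl
    rw [pow_zero, mul_one] at hcard
    exact hNc (isCyclic_of_prime_card hcard)
  have hdvd : ∀ k : ℤ, a ^ k = 1 ↔ ((p : ℤ) ^ m) ∣ k := fun k => by
    rw [← orderOf_dvd_iff_zpow_eq_one, hm]; push_cast; rfl
  obtain ⟨n, hnN, hnM⟩ : ∃ n ∈ N, n ∉ Subgroup.zpowers a := by
    by_contra! hcon
    exact hNc (le_antisymm hMN (fun x hx => hcon x hx) ▸ inferInstance)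
  have hidx : (Subgroup.zpowers a).relIndex N = p := by
    have := Subgroup.relIndex_mul_relIndex ⊥ (Subgroup.zpowers a) N bot_le hMN
    rw [Subgroup.relIndex_bot_left, Subgroup.relIndex_bot_left, Nat.card_zpowers, hm, hcard,
      mul_comm p] at this
    exact Nat.eq_of_mul_eq_mul_left (pow_pos hp.out.pos m) this
  haveI : ((Subgroup.zpowers a).subgroupOf N).Normal := hMn.subgroupOf N
  have hppow : ∀ g ∈ N, g ^ p ∈ Subgroup.zpowers a := by
    intro g hg
    have := Subgroup.pow_index_mem ((Subgroup.zpowers a).subgroupOf N) ⟨g, hg⟩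
    rw [← Subgroup.relIndex, hidx, Subgroup.mem_subgroupOf] at this
    exact this
  -- the twist by an element of `N`
  have htw : ∀ g ∈ N, ∃ r : ℤ, (∀ c : ℤ, g * a ^ c = a ^ (r * c) * g) ∧
      (p : ℤ) ^ (m - 1) ∣ r - 1 ∧ (p : ℤ) ∣ r - 1 := by
    intro g hg
    obtain ⟨r, hr⟩ := Subgroup.mem_zpowers_iff.mp
      (hMn.conj_mem a (Subgroup.mem_zpowers a) g)
    have hconj : ∀ c : ℤ, g * a ^ c = a ^ (r * c) * g := fun c => by
      rw [zpow_mul, hr, conj_zpow]; group
    have hk : ∀ k : ℕ, g ^ k * a * (g ^ k)⁻¹ = a ^ (r ^ k) := by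
      intro k
      induction k with
      | zero => simp
      | succ k ih =>
        calc g ^ (k + 1) * a * (g ^ (k + 1))⁻¹ = g * (g ^ k * a * (g ^ k)⁻¹) * g⁻¹ := by group
          _ = a ^ r ^ (k + 1) := by rw [ih, ← conj_zpow, ← hr, ← zpow_mul, pow_succ']
    obtain ⟨i, hi⟩ := Subgroup.mem_zpowers_iff.mp (hppow g hg)
    have h1 := hk p
    rw [← hi] at h1
    have h2 : a ^ (r ^ p - 1) = 1 := by
      rw [zpow_sub, ← h1, zpow_one]; group
    exact ⟨r, hconj, dvd_sub_one_of_pow_prime hp2 hm0 ((hdvd _).mp h2)⟩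
  -- `p`-th powers
  have hpow : ∀ g ∈ N, ∀ j : ℤ, (a ^ j * g) ^ p = a ^ (j * p) * g ^ p := by
    intro g hg j
    obtain ⟨r, hconj, h1, h2⟩ := htw g hg
    rw [InvChar.pow_mul_twist hconj j p]
    congr 1
    rw [← mul_inv_eq_one, ← zpow_neg, ← zpow_add, hdvd,
      show j * ∑ i ∈ Finset.range p, r ^ i + -(j * (p : ℤ)) =
        j * ((∑ i ∈ Finset.range p, r ^ i) - p) by ring]
    exact dvd_mul_of_dvd_right (dvd_geom_sum_sub hp2 hm0 h1 h2) _
  have hgen : ∀ y ∈ N, y ∉ Subgroup.zpowers a →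
      ∀ g ∈ N, ∃ i k : ℤ, g = a ^ i * y ^ k := by
    intro y hy hyM g hg
    have hcyc : Nat.card (N ⧸ (Subgroup.zpowers a).subgroupOf N) = p := hidx
    have hy1 : ((⟨y, hy⟩ : N) : N ⧸ (Subgroup.zpowers a).subgroupOf N) ≠ 1 := fun h =>
      hyM (Subgroup.mem_subgroupOf.mp ((QuotientGroup.eq_one_iff _).mp h))
    obtain ⟨k, hk⟩ := Subgroup.mem_zpowers_iff.mp (mem_zpowers_of_prime_card hcyc hy1
      (g' := ((⟨g, hg⟩ : N) : N ⧸ (Subgroup.zpowers a).subgroupOf N)))
    rw [← QuotientGroup.mk_zpow, eq_comm, ← div_eq_one, ← QuotientGroup.mk_div,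
      QuotientGroup.eq_one_iff, Subgroup.mem_subgroupOf] at hk
    obtain ⟨i, hi⟩ := Subgroup.mem_zpowers_iff.mp hk
    refine ⟨i, k, ?_⟩
    rw [hi]
    simp [div_eq_mul_inv]
  obtain ⟨t, ht⟩ : ∃ t : ℤ, n ^ p = a ^ (t * p) := by
    obtain ⟨t, ht⟩ := Subgroup.mem_zpowers_iff.mp (hppow n hnN)
    suffices (p : ℤ) ∣ t by
      obtain ⟨s, rfl⟩ := this
      exact ⟨s, by rw [← ht, mul_comm]⟩
    by_contra hpt
    obtain ⟨u, v, huv⟩ : IsCoprime t ((p : ℤ) ^ m) :=
      IsCoprime.pow_right ((Nat.prime_iff_prime_int.mp hp.out).coprime_iff_not_dvd.mpr hpt).symm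
    apply hNc
    have hae : a = (n ^ p) ^ u := by
      rw [← ht, ← zpow_mul, ← mul_inv_eq_one, ← zpow_one a, ← zpow_mul, ← zpow_neg, ← zpow_add,
        hdvd]
      exact ⟨v, by linear_combination -huv⟩
    have hNn' : N = Subgroup.zpowers n := by
      refine le_antisymm (fun g hg => ?_) (Subgroup.zpowers_le.mpr hnN)
      obtain ⟨i, k, rfl⟩ := hgen n hnN hnM g hg
      refine mul_mem (zpow_mem ?_ i) (zpow_mem (Subgroup.mem_zpowers n) k)
      rw [hae]
      exact zpow_mem (pow_mem (Subgroup.mem_zpowers n) p) u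
    rw [hNn']
    infer_instance
  set x := a ^ (-t) * n with hx
  have hxN : x ∈ N := mul_mem (zpow_mem haN _) hnN
  have hxp : x ^ p = 1 := by
    rw [hx, hpow n hnN, ht, ← zpow_add]
    simp
  have hxM : x ∉ Subgroup.zpowers a := fun h =>
    hnM ((Subgroup.mul_mem_cancel_left _ (Subgroup.zpow_mem_zpowers a _)).mp h)
  set z := a ^ ((p : ℤ) ^ (m - 1)) with hz
  have hpm : (p : ℤ) ^ (m - 1) * p = (p : ℤ) ^ m := by rw [← pow_succ]; congr 1; omega
  have hzp : z ^ p = 1 := by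
    rw [hz, ← zpow_natCast, ← zpow_mul, hdvd, hpm]
  have hzx : Commute z x := by
    obtain ⟨r, hconj, h1, h2⟩ := htw x hxN
    show z * x = x * z
    rw [hz, hconj]
    congr 1
    rw [eq_comm, ← mul_inv_eq_one, ← zpow_neg, ← zpow_add, hdvd, ← hpm]
    refine dvd_trans (mul_dvd_mul dvd_rfl h2) ⟨1, ?_⟩
    ring
  have hchar : ∀ g ∈ N, g ^ p = 1 → ∃ i k : ℤ, g = z ^ i * x ^ k := by
    intro g hg hgp
    obtain ⟨i, k, rfl⟩ := hgen x hxN hxM g hg
    have hxk : (x ^ k) ^ p = 1 := by rw [← zpow_natCast, zpow_comm, zpow_natCast, hxp, one_zpow]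
    rw [hpow _ (zpow_mem hxN k), hxk, mul_one, hdvd, ← hpm] at hgp
    obtain ⟨e, rfl⟩ : (p : ℤ) ^ (m - 1) ∣ i :=
      (mul_dvd_mul_iff_right (by exact_mod_cast hp.out.ne_zero)).mp hgp
    exact ⟨e, k, by rw [hz, ← zpow_mul]⟩
  set E := Subgroup.zpowers z ⊔ Subgroup.zpowers x with hE
  have hzN : z ∈ N := zpow_mem haN _
  have hnorm : Subgroup.zpowers x ≤ Subgroup.normalizer (Subgroup.zpowers z : Set G) := by
    refine le_trans (Subgroup.zpowers_le.mpr ?_) (Subgroup.centralizer_le_normalizer _)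
    rw [Subgroup.mem_centralizer_iff]
    rintro _ ⟨i, rfl⟩
    exact (hzx.zpow_left i).eq
  have hEmem : ∀ g ∈ E, ∃ i k : ℤ, g = z ^ i * x ^ k := by
    intro g hg
    obtain ⟨_, ⟨i, rfl⟩, _, ⟨k, rfl⟩, rfl⟩ := (Basics.mem_sup_of_le_normalizer hnorm).mp hg
    exact ⟨i, k, rfl⟩
  have hEp : ∀ g ∈ E, g ^ p = 1 := by
    intro g hg
    obtain ⟨i, k, rfl⟩ := hEmem g hg
    have hxk : (x ^ k) ^ p = 1 := by rw [← zpow_natCast, zpow_comm, zpow_natCast, hxp, one_zpow]
    have hzi : (z ^ i) ^ p = 1 := by rw [← zpow_natCast, zpow_comm, zpow_natCast, hzp, one_zpow]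
    rw [(hzx.zpow_zpow i k).mul_pow, hzi, hxk, mul_one]
  have hEab : IsMulCommutative E := ⟨⟨fun g h => Subtype.ext (by
    obtain ⟨i, k, hg⟩ := hEmem g g.2
    obtain ⟨i', k', hh⟩ := hEmem h h.2
    show (g : G) * h = h * g
    rw [hg, hh]
    exact ((((Commute.refl z).zpow_zpow i i').mul_right (hzx.zpow_zpow i k')).mul_left
      (((hzx.zpow_zpow i' k).symm).mul_right ((Commute.refl x).zpow_zpow k k'))).eq)⟩⟩
  refine ⟨E, ⟨fun g hg c => ?_⟩, ?_, hEab, hEp⟩
  · have hgN : g ∈ N := sup_le (Subgroup.zpowers_le.mpr hzN) (Subgroup.zpowers_le.mpr hxN) hg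
    obtain ⟨i, k, he⟩ := hchar _ (hNn.conj_mem g hgN c) (by
      rw [← MulAut.conj_apply, ← map_pow, hEp g hg, map_one])
    rw [he]
    exact mul_mem (zpow_mem (Subgroup.mem_sup_left (Subgroup.mem_zpowers z)) i)
      (zpow_mem (Subgroup.mem_sup_right (Subgroup.mem_zpowers x)) k)
  · have hzo : orderOf z = p := by
      refine orderOf_eq_prime hzp fun h => ?_
      rw [hz, hdvd, ← hpm] at h
      have h3 : (p : ℤ) ∣ 1 := by
        obtain ⟨e, he⟩ := h
        refine ⟨e, mul_left_cancel₀ (pow_ne_zero (m - 1) (by exact_mod_cast hp.out.ne_zero : (p:ℤ) ≠ 0)) ?_⟩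
        linear_combination he
      exact hp.out.ne_one (by exact_mod_cast Int.eq_one_of_dvd_one (Int.natCast_nonneg p) h3)
    have hxo : orderOf x = p := orderOf_eq_prime hxp fun h => hxM (h ▸ one_mem _)
    have hinf : Subgroup.zpowers z ⊓ Subgroup.zpowers x = ⊥ := by
      rw [eq_bot_iff]
      rintro g ⟨hgz, hgx⟩
      by_contra hg1
      have hgo : g ≠ 1 := hg1
      have hxg : x ∈ Subgroup.zpowers g := by
        have := mem_zpowers_of_prime_card (G := Subgroup.zpowers x) (p := p)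
          (g := ⟨g, hgx⟩) (g' := ⟨x, Subgroup.mem_zpowers x⟩) (by rw [Nat.card_zpowers, hxo])
          (fun h => hgo (congrArg Subtype.val h))
        obtain ⟨i, hi⟩ := Subgroup.mem_zpowers_iff.mp this
        exact ⟨i, congrArg Subtype.val hi⟩
      have hga : g ∈ Subgroup.zpowers a :=
        Subgroup.zpowers_le.mpr (zpow_mem (Subgroup.mem_zpowers a) _) hgz
      exact hxM (Subgroup.zpowers_le.mpr hga hxg)
    have h := Basics.card_mul_card_eq_card_sup_mul_card_inf hnorm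
    rw [hinf, Subgroup.card_bot, mul_one, Nat.card_zpowers, Nat.card_zpowers, hzo, hxo] at h
    rw [hE, ← h, pow_two]

/-- A p-group with a self-centralizing normal subgroup of order p ^ 2 and exponent p has order at
most p ^ 3. -/
theorem card_le_cube (hG : IsPGroup p G) (E : Subgroup G) [hEn : E.Normal]
    (hEc : Nat.card E = p ^ 2) (hEab : IsMulCommutative E) (hEp : ∀ g ∈ E, g ^ p = 1)
    (hsc : ∀ c ∈ Subgroup.centralizer (E : Set G), c ∈ E) : Nat.card G ≤ p ^ 3 := by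
  have hE1 : E ≠ ⊥ := fun h => by
    rw [h, Subgroup.card_bot] at hEc
    nlinarith [hp.out.two_le]
  obtain ⟨z, hzE, hzZ, hz1⟩ := InvChar.exists_mem_center_of_normal hG E hE1
  obtain ⟨e, heE, hez⟩ : ∃ e ∈ E, e ∉ Subgroup.zpowers z := by
    by_contra! h
    have := Subgroup.card_le_of_le (show E ≤ Subgroup.zpowers z from h)
    rw [hEc, Nat.card_zpowers, orderOf_eq_prime (hEp z hzE) hz1] at this
    nlinarith [hp.out.two_le]
  have hC : Subgroup.centralizer ({e} : Set G) ≤ E := by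
    intro c hc
    apply hsc
    rw [Subgroup.mem_centralizer_iff]
    intro y hy
    -- `z` and `e` generate `E`
    have hle : Subgroup.zpowers z ⊔ Subgroup.zpowers e = E := by
      refine Subgroup.eq_of_le_of_card_ge (sup_le (Subgroup.zpowers_le.mpr hzE)
        (Subgroup.zpowers_le.mpr heE)) ?_
      obtain ⟨k, hk⟩ := IsPGroup.iff_card.mp
        (hG.to_subgroup (Subgroup.zpowers z ⊔ Subgroup.zpowers e))
      have hlt : Nat.card (Subgroup.zpowers z) <
          Nat.card (Subgroup.zpowers z ⊔ Subgroup.zpowers e : Subgroup G) :=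
        Set.Finite.card_lt_card (Set.toFinite _) (SetLike.coe_ssubset_coe.mpr (lt_of_le_of_ne le_sup_left fun he =>
          hez (he ▸ Subgroup.mem_sup_right (Subgroup.mem_zpowers e) : e ∈ Subgroup.zpowers z)))
      rw [Nat.card_zpowers, orderOf_eq_prime (hEp z hzE) hz1, hk] at hlt
      nth_rw 1 [← pow_one p] at hlt
      rw [Nat.pow_lt_pow_iff_right hp.out.one_lt] at hlt
      rw [hEc, hk]
      exact Nat.pow_le_pow_right hp.out.pos hlt
    have hsup : Subgroup.zpowers z ⊔ Subgroup.zpowers e ≤ Subgroup.centralizer ({c} : Set G) :=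
      sup_le (Subgroup.zpowers_le.mpr (Subgroup.mem_centralizer_singleton_iff.mpr
          (Subgroup.mem_center_iff.mp hzZ c).symm))
        (Subgroup.zpowers_le.mpr (Subgroup.mem_centralizer_singleton_iff.mpr
          (Subgroup.mem_centralizer_singleton_iff.mp hc).symm))
    exact Subgroup.mem_centralizer_singleton_iff.mp (hsup (hle ▸ hy))
  have horb : (Subgroup.centralizer ({e} : Set G)).index < p ^ 2 := by
    rw [Subgroup.centralizer_eq_comap_stabilizer]
    refine lt_of_eq_of_lt (Subgroup.index_comap_of_surjective _ ConjAct.toConjAct.surjective) ?_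
    rw [MulAction.index_stabilizer]
    calc (MulAction.orbit (ConjAct G) e).ncard < (E : Set G).ncard := by
          refine Set.ncard_lt_ncard ⟨?_, fun h => ?_⟩ (Set.toFinite _)
          · rintro _ ⟨g, rfl⟩
            exact hEn.conj_mem e heE _
          · obtain ⟨g, hg⟩ := h (one_mem E : (1 : G) ∈ (E : Set G))
            exact hez (by
              have : e = 1 := by
                have h1 := congrArg (fun x => g⁻¹ • x) hg
                simpa using h1
              rw [this]; exact one_mem _)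
      _ = p ^ 2 := by rw [← Nat.card_coe_set_eq]; exact hEc
  obtain ⟨k, hk⟩ := hG.index (Subgroup.centralizer ({e} : Set G))
  rw [hk, Nat.pow_lt_pow_iff_right hp.out.one_lt] at horb
  rw [← Subgroup.card_mul_index (Subgroup.centralizer ({e} : Set G)), hk]
  calc Nat.card (Subgroup.centralizer ({e} : Set G)) * p ^ k ≤ p ^ 2 * p ^ 1 :=
        Nat.mul_le_mul ((Subgroup.card_le_of_le hC).trans hEc.le)
          (Nat.pow_le_pow_right hp.out.pos (by omega))
    _ = p ^ 3 := by ring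

end Cfsg.Agent.PGroup23
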