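import Mathlib
import Cfsg.Agent.Lib.Basics.Tools
import Cfsg.Prelude.Def_Transfer

/-!
`p`-groups with an abelian subgroup of index `p`; extraspecial groups have order `p ^ (2n+1)`.
-/

set_option autoImplicit false

namespace Cfsg.Agent.PGroup23

open Cfsg
open scoped commutatorElement

universe u

variable {S : Type u} [Group S] [Finite S] {p : ℕ} [Fact p.Prime]

lemma normal_of_index_eq (hS : IsPGroup p S) {A : Subgroup S} (hA : A.index = p) : A.Normal :=
  haveI := hS.isNilpotent
  Subgroup.normal_of_index_eq_minFac_card (by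
    obtain ⟨k, hk⟩ := IsPGroup.iff_card.mp hS
    have hk0 : k ≠ 0 := by
      rintro rfl
      have h1 := A.index_dvd_card
      rw [hA, hk, pow_zero, Nat.dvd_one] at h1
      exact (Fact.out : p.Prime).ne_one h1
    rw [hA, hk, (Fact.out : p.Prime).pow_minFac hk0])

lemma sup_zpowers_eq_top {A : Subgroup S} (hA : A.index = p) {x : S} (hx : x ∉ A) :
    A ⊔ Subgroup.zpowers x = ⊤ := by
  have hlt : A < A ⊔ Subgroup.zpowers x := lt_of_le_of_ne le_sup_left fun he =>
    hx (he ▸ (le_sup_right : Subgroup.zpowers x ≤ A ⊔ Subgroup.zpowers x) (Subgroup.mem_zpowers x))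
  have h1 := Subgroup.relIndex_mul_index hlt.le
  rw [hA] at h1
  rcases ((Fact.out : p.Prime).eq_one_or_self_of_dvd _ (Dvd.intro_left _ h1)) with h2 | h2
  · exact Subgroup.index_eq_one.mp h2
  · exfalso
    rw [h2] at h1
    have h3 : A.relIndex (A ⊔ Subgroup.zpowers x) = 1 :=
      Nat.eq_of_mul_eq_mul_right (Fact.out : p.Prime).pos (h1.trans (one_mul p).symm)
    exact hlt.not_ge (Subgroup.relIndex_eq_one.mp h3)

lemma isMulCommutative_of_generated {A : Subgroup S} (hA : IsMulCommutative A) {x : S}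
    (htop : A ⊔ Subgroup.zpowers x = ⊤) (hc : ∀ a ∈ A, Commute x a) : IsMulCommutative S := by
  have hle : (⊤ : Subgroup S) ≤ Subgroup.center S := by
    rw [← htop]
    refine sup_le (fun a ha => ?_) (Subgroup.zpowers_le.mpr ?_)
    · rw [Subgroup.mem_center_iff]
      intro g
      have : (⊤ : Subgroup S) ≤ Subgroup.centralizer {a} := by
        rw [← htop]
        refine sup_le (fun b hb => ?_) (Subgroup.zpowers_le.mpr ?_)
        · exact Subgroup.mem_centralizer_singleton_iff.mpr
            (congrArg Subtype.val (hA.is_comm.comm (⟨b, hb⟩ : A) ⟨a, ha⟩))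
        · exact Subgroup.mem_centralizer_singleton_iff.mpr (hc a ha)
      exact Subgroup.mem_centralizer_singleton_iff.mp (this (Subgroup.mem_top g))
    · rw [Subgroup.mem_center_iff]
      intro g
      have : (⊤ : Subgroup S) ≤ Subgroup.centralizer {x} := by
        rw [← htop]
        exact sup_le (fun b hb => Subgroup.mem_centralizer_singleton_iff.mpr (hc b hb).symm)
          (Subgroup.zpowers_le.mpr (Subgroup.mem_centralizer_singleton_iff.mpr rfl))
      exact Subgroup.mem_centralizer_singleton_iff.mp (this (Subgroup.mem_top g))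
  exact ⟨⟨fun a b => Subgroup.mem_center_iff.mp (hle (Subgroup.mem_top b)) a⟩⟩

lemma center_le_abelian_index (hna : ¬ IsMulCommutative S) {A : Subgroup S} (hA : IsMulCommutative A)
    (hAi : A.index = p) : Subgroup.center S ≤ A := fun z hz => by
  by_contra hzA
  exact hna (isMulCommutative_of_generated hA (sup_zpowers_eq_top hAi hzA) fun a _ =>
    (Subgroup.mem_center_iff.mp hz a).symm)

lemma mul_card_eq (hS : IsPGroup p S) (hna : ¬ IsMulCommutative S) {A : Subgroup S}
    (hA : IsMulCommutative A) (hAi : A.index = p) :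
    (Subgroup.center S).index = p * Nat.card (commutator S) := by
  haveI := normal_of_index_eq hS hAi
  obtain ⟨x, hx⟩ : ∃ x, x ∉ A := by
    by_contra hcon
    simp only [not_exists, not_not] at hcon
    rw [show A = ⊤ from eq_top_iff.mpr fun g _ => hcon g, Subgroup.index_top] at hAi
    exact (Fact.out : p.Prime).ne_one hAi.symm
  have htop := sup_zpowers_eq_top hAi hx
  have hab : ∀ a ∈ A, ∀ b ∈ A, a * b = b * a := fun a ha b hb =>
    congrArg Subtype.val (hA.is_comm.comm (⟨a, ha⟩ : A) ⟨b, hb⟩)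
  have hfA : ∀ a ∈ A, x * a * x⁻¹ * a⁻¹ ∈ A := fun a ha =>
    mul_mem ((inferInstance : A.Normal).conj_mem a ha x) (inv_mem ha)
  let f : A →* S := MonoidHom.mk' (fun a => x * (a : S) * x⁻¹ * (a : S)⁻¹) fun a b => by
    calc x * ((a : S) * b) * x⁻¹ * ((a : S) * b)⁻¹
        = x * a * x⁻¹ * ((x * b * x⁻¹ * (b : S)⁻¹) * (a : S)⁻¹) := by group
      _ = x * a * x⁻¹ * ((a : S)⁻¹ * (x * b * x⁻¹ * (b : S)⁻¹)) := by
        rw [hab _ (hfA b b.2) _ (inv_mem a.2)]
      _ = _ := by group
  have hker : f.ker = (Subgroup.center S).subgroupOf A := by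
    ext a
    rw [MonoidHom.mem_ker, Subgroup.mem_subgroupOf]
    show x * (a : S) * x⁻¹ * (a : S)⁻¹ = 1 ↔ _
    rw [mul_inv_eq_one, mul_inv_eq_iff_eq_mul]
    refine ⟨fun h => ?_, fun h => Subgroup.mem_center_iff.mp h x⟩
    rw [Subgroup.mem_center_iff]
    intro g
    have : (⊤ : Subgroup S) ≤ Subgroup.centralizer {(a : S)} := by
      rw [← htop]
      exact sup_le (fun b hb => Subgroup.mem_centralizer_singleton_iff.mpr (hab b hb a a.2))
        (Subgroup.zpowers_le.mpr (Subgroup.mem_centralizer_singleton_iff.mpr h))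
    exact Subgroup.mem_centralizer_singleton_iff.mp (this (Subgroup.mem_top g))
  have hle : f.range ≤ commutator S := by
    rintro _ ⟨a, rfl⟩
    exact Subgroup.commutator_mem_commutator (Subgroup.mem_top x) (Subgroup.mem_top (a : S))
  have hdec : ∀ g : S, ∃ a ∈ A, ∃ k : ℤ, g = a * x ^ k := by
    intro g
    have hg : g ∈ ((A ⊔ Subgroup.zpowers x : Subgroup S) : Set S) := by
      rw [htop]; exact Subgroup.mem_top g
    rw [Subgroup.normal_mul] at hg
    obtain ⟨a, ha, _, ⟨k, rfl⟩, rfl⟩ := hg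
    exact ⟨a, ha, k, rfl⟩
  haveI : f.range.Normal := by
    constructor
    rintro _ ⟨a, rfl⟩ g
    obtain ⟨b, hb, k, rfl⟩ := hdec g
    refine ⟨⟨x ^ k * (a : S) * (x ^ k)⁻¹, (inferInstance : A.Normal).conj_mem a a.2 _⟩, ?_⟩
    have h1 : x * (x ^ k * (a : S) * (x ^ k)⁻¹) * x⁻¹ * (x ^ k * (a : S) * (x ^ k)⁻¹)⁻¹ =
        x ^ k * (x * (a : S) * x⁻¹ * (a : S)⁻¹) * (x ^ k)⁻¹ := by group
    show x * (x ^ k * (a : S) * (x ^ k)⁻¹) * x⁻¹ * (x ^ k * (a : S) * (x ^ k)⁻¹)⁻¹ =
      b * x ^ k * (x * (a : S) * x⁻¹ * (a : S)⁻¹) * (b * x ^ k)⁻¹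
    rw [h1, show b * x ^ k * (x * (a : S) * x⁻¹ * (a : S)⁻¹) * (b * x ^ k)⁻¹ =
      b * (x ^ k * (x * (a : S) * x⁻¹ * (a : S)⁻¹) * (x ^ k)⁻¹) * b⁻¹ by group,
      ← hab _ ((inferInstance : A.Normal).conj_mem _ (hfA a a.2) _) b hb, mul_inv_cancel_right]
  have hge : commutator S ≤ f.range := by
    rw [commutator_def, Subgroup.commutator_le]
    intro g _ h _
    rw [← QuotientGroup.eq_one_iff]
    show QuotientGroup.mk' f.range _ = 1
    rw [map_commutatorElement, commutatorElement_eq_one_iff_mul_comm]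
    have hxa : ∀ a ∈ A, Commute (QuotientGroup.mk' f.range x) (QuotientGroup.mk' f.range a) := by
      intro a ha
      have h2 : QuotientGroup.mk' f.range (x * a * x⁻¹ * a⁻¹) = 1 :=
        (QuotientGroup.eq_one_iff _).mpr ⟨⟨a, ha⟩, rfl⟩
      rwa [map_mul, map_mul, map_mul, map_inv, map_inv, mul_inv_eq_one, mul_inv_eq_iff_eq_mul] at h2
    obtain ⟨a, ha, i, rfl⟩ := hdec g
    obtain ⟨b, hb, j, rfl⟩ := hdec h
    simp only [map_mul, map_zpow]
    exact Commute.mul_left
      (Commute.mul_right ((show Commute a b from hab a ha b hb).map _) ((hxa a ha).symm.zpow_right j))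
      (Commute.mul_right ((hxa b hb).zpow_left i) (Commute.zpow_zpow_self _ i j))
  rw [le_antisymm hge hle, ← Subgroup.index_ker, hker]
  show _ = p * (Subgroup.center S).relIndex A
  rw [← Subgroup.relIndex_mul_index (center_le_abelian_index hna hA hAi), hAi, mul_comm]

lemma two_le_card_commutator (hS : IsPGroup p S) (hna : ¬ IsMulCommutative S) :
    p ≤ Nat.card (commutator S) := by
  obtain ⟨k, hk⟩ := IsPGroup.iff_card.mp (hS.to_subgroup (commutator S))
  rw [hk]
  refine Nat.le_self_pow ?_ p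
  rintro rfl
  apply hna
  rw [pow_zero, Subgroup.card_eq_one] at hk
  exact ⟨⟨fun a b => commutatorElement_eq_one_iff_mul_comm.mp (Subgroup.mem_bot.mp (hk ▸
    Subgroup.commutator_mem_commutator (Subgroup.mem_top a) (Subgroup.mem_top b)))⟩⟩

end Cfsg.Agent.PGroup23
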