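import Cfsg.Agent.Lib.PGroup23.AbelianIndex

/-!
The order of an extraspecial group is an odd power of `p`; subgroups of index `p`.
-/

set_option autoImplicit false

namespace Cfsg.Agent.PGroup23

open Cfsg
open scoped commutatorElement

universe u

variable {Q : Type u} [Group Q] [Finite Q] {p : ℕ} [Fact p.Prime]

lemma commutator_pow_left (h : IsExtraspecial p Q) (x y : Q) :
    ∀ z ∈ commutator Q, z ^ p = 1 := by
  intro z hz
  rw [h.1.2.2] at hz
  have h2 := pow_card_eq_one' (x := (⟨z, hz⟩ : Subgroup.center Q))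
  rw [h.2] at h2
  exact congrArg Subtype.val h2

/-- conjugation commutator as a homomorphism into the centre -/
noncomputable def commHom (h : IsExtraspecial p Q) (r : Q) : Q →* Subgroup.center Q :=
  MonoidHom.mk' (fun c => ⟨⁅c, r⁆, h.1.2.2 ▸
    Subgroup.commutator_mem_commutator (Subgroup.mem_top c) (Subgroup.mem_top r)⟩) fun a b => by
    refine Subtype.ext ?_
    show ⁅a * b, r⁆ = ⁅a, r⁆ * ⁅b, r⁆
    have hb : ⁅b, r⁆ ∈ Subgroup.center Q := h.1.2.2 ▸
      Subgroup.commutator_mem_commutator (Subgroup.mem_top b) (Subgroup.mem_top r)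
    calc ⁅a * b, r⁆ = a * ⁅b, r⁆ * a⁻¹ * ⁅a, r⁆ := by simp only [commutatorElement_def]; group
      _ = ⁅b, r⁆ * ⁅a, r⁆ := by rw [Subgroup.mem_center_iff.mp hb a, mul_inv_cancel_right]
      _ = ⁅a, r⁆ * ⁅b, r⁆ := (Subgroup.mem_center_iff.mp hb _).symm

lemma commHom_coe (h : IsExtraspecial p Q) (r c : Q) : ((commHom h r c : _) : Q) = ⁅c, r⁆ := rfl

theorem exists_card_eq (h : IsExtraspecial p Q) : ∃ n : ℕ, 1 ≤ n ∧ Nat.card Q = p ^ (1 + 2 * n) := by
  have hp := (Fact.out : p.Prime)
  -- subgroups with the same centre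
  suffices ∀ m : ℕ, ∀ H : Subgroup Q, Nat.card H = m → Subgroup.center Q ≤ H →
      (∀ x ∈ H, (∀ y ∈ H, ⁅y, x⁆ = 1) → x ∈ Subgroup.center Q) →
      ∃ n : ℕ, Nat.card H = p ^ (1 + 2 * n) by
    obtain ⟨n, hn⟩ := this _ ⊤ rfl le_top fun x _ hx => Subgroup.mem_center_iff.mpr fun y =>
      commutatorElement_eq_one_iff_mul_comm.mp (hx y (Subgroup.mem_top y))
    rw [Subgroup.card_top] at hn
    refine ⟨n, ?_, hn⟩
    by_contra hn0
    rw [show n = 0 by omega, mul_zero, add_zero, pow_one] at hn
    have h1 : Subgroup.center Q = ⊤ := Subgroup.eq_top_of_card_eq _ (h.2.trans hn.symm)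
    have h2 : commutator Q = ⊥ := by
      rw [commutator_def, Subgroup.commutator_eq_bot_iff_le_centralizer]
      intro a _
      exact Subgroup.mem_centralizer_iff.mpr fun b _ =>
        Subgroup.mem_center_iff.mp (h1.symm ▸ Subgroup.mem_top a) b
    rw [h.1.2.2, h1] at h2
    have h3 := hn
    rw [← Subgroup.card_top, h2, Subgroup.card_bot] at h3
    exact hp.ne_one h3.symm
  intro m
  induction m using Nat.strong_induction_on with
  | _ m ih =>
    intro H hm hZ hH
    subst hm
    by_cases hle : H ≤ Subgroup.center Q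
    · exact ⟨0, by rw [le_antisymm hle hZ, h.2, mul_zero, add_zero, pow_one]⟩
    obtain ⟨x, hx, hxZ⟩ := SetLike.not_le_iff_exists.mp hle
    obtain ⟨y, hy, hyx⟩ : ∃ y ∈ H, ⁅y, x⁆ ≠ 1 := by
      by_contra hcon
      simp only [not_exists, not_and, ne_eq, not_not] at hcon
      exact hxZ (hH x hx hcon)
    -- the kernel of `(c ↦ ([c,x],[c,y]))`
    let f : H →* Subgroup.center Q × Subgroup.center Q :=
      ((commHom h x).prod (commHom h y)).comp H.subtype
    have hsurj : Function.Surjective f := by
      intro ⟨u, v⟩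
      have hgen : ∀ (w : Subgroup.center Q), w ≠ 1 → ∀ t, ∃ i : ℤ, w ^ i = t := by
        intro w hw t
        have := mem_zpowers_of_prime_card h.2 (g := w) (g' := t) hw
        exact Subgroup.mem_zpowers_iff.mp this
      have hxy : ⁅x, y⁆ ≠ 1 := fun he => hyx (by rw [← commutatorElement_inv, he, inv_one])
      obtain ⟨i, hi⟩ := hgen (commHom h x y) (fun he => hyx (congrArg Subtype.val he)) u
      obtain ⟨j, hj⟩ := hgen (commHom h y x) (fun he => hxy (congrArg Subtype.val he)) v
      refine ⟨⟨y, hy⟩ ^ i * ⟨x, hx⟩ ^ j, ?_⟩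
      rw [map_mul, map_zpow, map_zpow]
      have hxx : commHom h x x = 1 := Subtype.ext (commutatorElement_self x)
      have hyy : commHom h y y = 1 := Subtype.ext (commutatorElement_self y)
      refine Prod.ext ?_ ?_
      · show commHom h x y ^ i * commHom h x x ^ j = u
        rw [hxx, one_zpow, mul_one, hi]
      · show commHom h y y ^ i * commHom h y x ^ j = v
        rw [hyy, one_zpow, one_mul, hj]
    set K := f.ker.map H.subtype with hK
    have hcard : Nat.card H = Nat.card K * p ^ 2 := by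
      rw [f.ker.card_eq_card_quotient_mul_card_subgroup,
        Nat.card_congr (QuotientGroup.quotientKerEquivOfSurjective f hsurj).toEquiv, Nat.card_prod,
        h.2, hK, Subgroup.card_map_of_injective H.subtype_injective]
      ring
    have hmem : ∀ c, c ∈ K ↔ c ∈ H ∧ ⁅c, x⁆ = 1 ∧ ⁅c, y⁆ = 1 := by
      intro c
      constructor
      · rintro ⟨c, hc, rfl⟩
        exact ⟨c.2, congrArg (fun z => ((z.1 : Subgroup.center Q) : Q)) hc,
          congrArg (fun z => ((z.2 : Subgroup.center Q) : Q)) hc⟩
      · rintro ⟨hc, h1, h2⟩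
        exact ⟨⟨c, hc⟩, Prod.ext (Subtype.ext h1) (Subtype.ext h2), rfl⟩
    have hlt : Nat.card K < Nat.card H := by
      rw [hcard]
      exact lt_mul_of_one_lt_right Nat.card_pos (Nat.one_lt_pow two_ne_zero hp.one_lt)
    obtain ⟨n, hn⟩ := ih _ hlt K rfl (fun z hz => (hmem z).mpr ⟨hZ hz,
      commutatorElement_eq_one_iff_mul_comm.mpr (Subgroup.mem_center_iff.mp hz x).symm,
      commutatorElement_eq_one_iff_mul_comm.mpr (Subgroup.mem_center_iff.mp hz y).symm⟩) (by
      intro z hz hzK
      obtain ⟨hzH, hzx, hzy⟩ := (hmem z).mp hz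
      refine hH z hzH fun w hw => ?_
      obtain ⟨i, hi⟩ := Subgroup.mem_zpowers_iff.mp (mem_zpowers_of_prime_card h.2
        (g := commHom h x y) (g' := commHom h x w) fun he => hyx (congrArg Subtype.val he))
      obtain ⟨j, hj⟩ := Subgroup.mem_zpowers_iff.mp (mem_zpowers_of_prime_card h.2
        (g := commHom h y x) (g' := commHom h y w)
        fun he => hyx (by rw [← commutatorElement_inv, show ⁅x, y⁆ = 1 from congrArg Subtype.val he,
          inv_one]))
      have hxx : commHom h x x = 1 := Subtype.ext (commutatorElement_self x)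
      have hyy : commHom h y y = 1 := Subtype.ext (commutatorElement_self y)
      have hw' : w * (y ^ i * x ^ j)⁻¹ ∈ K := by
        refine (hmem _).mpr ⟨H.mul_mem hw (H.inv_mem (H.mul_mem (H.zpow_mem hy i) (H.zpow_mem hx j))),
          ?_, ?_⟩
        · rw [← commHom_coe h x]
          simp only [map_mul, map_inv, map_zpow, hxx, one_zpow, mul_one, hi, mul_inv_cancel,
            Subgroup.coe_one]
        · rw [← commHom_coe h y]
          simp only [map_mul, map_inv, map_zpow, hyy, one_zpow, one_mul, hj, mul_inv_cancel,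
            Subgroup.coe_one]
      have h1 : commHom h z (w * (y ^ i * x ^ j)⁻¹) = 1 := Subtype.ext (hzK _ hw')
      have hzy' : commHom h z y = 1 := Subtype.ext (by
        rw [commHom_coe, ← commutatorElement_inv, hzy, inv_one]; rfl)
      have hzx' : commHom h z x = 1 := Subtype.ext (by
        rw [commHom_coe, ← commutatorElement_inv, hzx, inv_one]; rfl)
      simp only [map_mul, map_inv, map_zpow, hzy', hzx', one_zpow, one_mul, inv_one, mul_one] at h1
      exact congrArg Subtype.val h1)
    exact ⟨n + 1, by rw [hcard, hn, ← pow_add]; ring_nf⟩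

end Cfsg.Agent.PGroup23
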